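import Groth.Agent.Depth.Local
import Groth.Agent.ExtVanish.Basic
import Groth.Agent.RegLoc.Homological
import Mathlib.Algebra.Homology.DerivedCategory.Ext.Linear
import Mathlib.LinearAlgebra.FreeModule.Finite.Basic

/-!
# Auslander–Buchsbaum over a regular local ring
-/

set_option autoImplicit false
set_option linter.style.haveILetI false

namespace Groth.Agent.ABReg

open CategoryTheory Abelian IsLocalRing
open Groth.Agent.RegLoc Groth.Agent.RegLoc.PD

universe u

variable {A : Type u} [CommRing A] [IsRegularLocalRing A] {n : ℕ}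

theorem le_depth_self (hn : ringKrullDim A = n) : (n : ℕ∞) ≤ LocCoh.depth A A := by
  obtain ⟨t, htc, hts⟩ := Submodule.FG.exists_span_finset_card_eq_spanFinrank
    (IsNoetherian.noetherian (maximalIdeal A))
  rw [RegLoc.spanFinrank_eq_dim hn] at htc
  let x : Fin n → A := fun i => (t.equivFinOfCardEq htc).symm i
  have hx : Ideal.span (Set.range x) = maximalIdeal A := by
    rw [← hts, show x = Subtype.val ∘ (t.equivFinOfCardEq htc).symm from rfl,
      EquivLike.range_comp, Subtype.range_coe]
  have h := (RegLoc.isRegular_ofFn hn x hx).toIsWeaklyRegular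
  have := Depth.le_idealDepth_of_isWeaklyRegular (I := maximalIdeal A) h (fun r hr => by
    obtain ⟨i, rfl⟩ := List.mem_ofFn.1 hr
    rw [← hx]; exact Ideal.subset_span ⟨i, rfl⟩)
  simpa [Depth.depth_eq_idealDepth] using this

theorem le_depth_free (hn : ringKrullDim A = n) (r : ℕ) :
    (n : ℕ∞) ≤ LocCoh.depth A (Fin r → A) := by
  rw [Depth.depth_eq_idealDepth, Depth.le_idealDepth_iff_ext]
  intro i hi
  exact ExtVanish.subsingleton_ext_pi
    ((Depth.le_idealDepth_iff_ext (I := maximalIdeal A) (M := A) n).1 (le_depth_self hn) i hi) r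

theorem depth_le (hn : ringKrullDim A = n) (M : Type u) [AddCommGroup M] [Module A M]
    [Module.Finite A M] [Nontrivial M] : LocCoh.depth A M ≤ n := by
  have := (Depth.depth_le_supportDim (R := A) (M := M)).trans (Module.supportDim_le_ringKrullDim A M)
  rw [hn] at this
  exact WithBot.coe_le_coe.1 this

theorem smul_ext_eq_zero {a : A} (ha : a ∈ maximalIdeal A) (X : ModuleCat.{u} A) (i : ℕ)
    (x : Ext (ModuleCat.of A (A ⧸ maximalIdeal A)) X i) : a • x = 0 := by
  have h : a • x = (Ext.mk₀ (a • 𝟙 _)).comp x (zero_add i) := by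
    rw [Ext.mk₀_smul, Ext.smul_comp, Ext.mk₀_id_comp]
  rw [h, show a • 𝟙 (ModuleCat.of A (A ⧸ maximalIdeal A)) = 0 from
    ModuleCat.hom_ext (LinearMap.ext fun y => Depth.smul_quotient_eq_zero ha y), Ext.mk₀_zero,
    Ext.zero_comp]

/-- A map with entries in the maximal ideal, out of a free module, kills `Ext(k, -)`. -/
theorem comp_eq_zero {K : Type u} [AddCommGroup K] [Module A K] [Module.Free A K] [Module.Finite A K]
    {r : ℕ} (f : K →ₗ[A] (Fin r → A)) (hf : ∀ v i, f v i ∈ maximalIdeal A) (i : ℕ)
    (x : Ext (ModuleCat.of A (A ⧸ maximalIdeal A)) (ModuleCat.of A K) i) :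
    x.comp (Ext.mk₀ (ModuleCat.ofHom f)) (add_zero i) = 0 := by
  classical
  let b := Module.Free.chooseBasis A K
  have hdec : ModuleCat.ofHom f = ∑ j, ∑ t, (f (b t) j) •
      ModuleCat.ofHom ((LinearMap.single A (fun _ : Fin r => A) j).comp (b.coord t)) := by
    refine ModuleCat.hom_ext (b.ext fun s => ?_)
    rw [ModuleCat.hom_ofHom, ModuleCat.hom_sum, LinearMap.sum_apply]
    simp only [ModuleCat.hom_sum, ModuleCat.hom_smul, ModuleCat.hom_ofHom, LinearMap.sum_apply,
      LinearMap.smul_apply, LinearMap.comp_apply, Module.Basis.coord_apply, Module.Basis.repr_self]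
    funext j
    simp [Finset.sum_apply, Pi.single_apply, Finsupp.single_apply]
  rw [hdec, Ext.mk₀_sum, Ext.comp_sum]
  refine Finset.sum_eq_zero fun j _ => ?_
  rw [Ext.mk₀_sum, Ext.comp_sum]
  refine Finset.sum_eq_zero fun t _ => ?_
  rw [Ext.mk₀_smul, Ext.comp_smul]
  exact smul_ext_eq_zero (hf _ _) _ _ _

/-- A finite module of maximal depth over a regular local ring is projective. -/
theorem projective_of_le_depth (hn : ringKrullDim A = n) : ∀ (e : ℕ) (M : Type u) [AddCommGroup M]
    [Module A M] [Module.Finite A M], HasProjectiveDimensionLE (ModuleCat.of A M) e →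
    (n : ℕ∞) ≤ LocCoh.depth A M → HasProjectiveDimensionLE (ModuleCat.of A M) 0 := by
  intro e
  induction e with
  | zero => intro M _ _ _ h _; exact h
  | succ e ih =>
    intro M _ _ _ h hd
    rcases Nat.eq_zero_or_pos n with rfl | hpos
    · exact RegLoc.Homological.pd_le_dim hn M
    obtain ⟨r, f, hf, hmin⟩ := Homological.exists_minimal_cover (R := A) M
    haveI : Module.Finite A (LinearMap.ker f) := Module.Finite.iff_fg.2 (IsNoetherian.noetherian _)
    rw [pd_shift f hf] at h
    have hdK : (n : ℕ∞) ≤ LocCoh.depth A (LinearMap.ker f) :=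
      le_trans (le_min (le_depth_free hn r) (le_trans hd le_self_add))
        (Depth.min_le_idealDepth_X₁ (I := maximalIdeal A) (Submodule.subtype_injective _) hf
          (LinearMap.exact_subtype_ker_map f))
    have hproj : Module.Projective A (LinearMap.ker f) := (pd_zero_iff _).1 (ih _ h hdK)
    haveI : Module.Free A (LinearMap.ker f) := Module.free_of_flat_of_isLocalRing
    rcases subsingleton_or_nontrivial (LinearMap.ker f) with hs | hs
    · rw [pd_zero_iff]
      exact Module.Projective.of_equiv (LinearEquiv.ofBijective f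
        ⟨LinearMap.ker_eq_bot.1 (Submodule.eq_bot_of_subsingleton), hf⟩)
    exfalso
    have hdepth : LocCoh.idealDepth (maximalIdeal A) (LinearMap.ker f) = n :=
      le_antisymm (depth_le hn _) hdK
    obtain ⟨-, hnt⟩ := (Depth.idealDepth_eq_iff_ext n).1 hdepth
    obtain ⟨x, hx⟩ := exists_ne (0 : Ext (ModuleCat.of A (A ⧸ maximalIdeal A))
      (ModuleCat.of A (LinearMap.ker f)) n)
    obtain ⟨x₃, hx₃⟩ := Ext.covariant_sequence_exact₁ _ (LinearMap.shortExact_shortComplexKer hf) x
      (comp_eq_zero (LinearMap.ker f).subtype (fun v i => hmin _ v.2 i) n x)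
      (n₀ := n - 1) (by omega)
    have := (Depth.le_idealDepth_iff_ext n).1 hd (n - 1) (by omega)
    refine hx ?_
    rw [← hx₃, Subsingleton.elim (α := Ext (ModuleCat.of A (A ⧸ maximalIdeal A)) (ModuleCat.of A M) (n - 1)) x₃ 0]
    exact Ext.zero_comp _ _ (LinearMap.shortExact_shortComplexKer hf).extClass _ _

/-- Auslander–Buchsbaum: `depth M ≥ n - q` iff `pd M ≤ q`. -/
theorem le_depth_iff (hn : ringKrullDim A = n) : ∀ (q : ℕ) (M : Type u) [AddCommGroup M]
    [Module A M] [Module.Finite A M],
    ((n - q : ℕ) : ℕ∞) ≤ LocCoh.depth A M ↔ HasProjectiveDimensionLE (ModuleCat.of A M) q := by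
  intro q
  induction q with
  | zero =>
    intro M _ _ _
    refine ⟨fun h => projective_of_le_depth hn n M (RegLoc.Homological.pd_le_dim hn M) h, fun h => ?_⟩
    haveI := (pd_zero_iff M).1 h
    haveI : Module.Free A M := Module.free_of_flat_of_isLocalRing
    rw [Depth.depth_eq_idealDepth, Depth.idealDepth_congr (Module.Free.chooseBasis A M).equivFun]
    rw [Nat.sub_zero]
    have := le_depth_free hn (Fintype.card (Module.Free.ChooseBasisIndex A M))
    rw [Depth.depth_eq_idealDepth] at this
    rwa [Depth.idealDepth_congr (LinearEquiv.funCongrLeft A A (Fintype.equivFin _))] at this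
  | succ q ih =>
    intro M _ _ _
    obtain ⟨r, f, hf, -⟩ := Homological.exists_minimal_cover (R := A) M
    haveI : Module.Finite A (LinearMap.ker f) := Module.Finite.iff_fg.2 (IsNoetherian.noetherian _)
    rw [pd_shift f hf, ← ih]
    constructor
    · intro h
      refine le_trans (le_min ?_ ?_) (Depth.min_le_idealDepth_X₁ (I := maximalIdeal A)
        (Submodule.subtype_injective _) hf (LinearMap.exact_subtype_ker_map f))
      · exact le_trans (by exact_mod_cast Nat.sub_le n q) (le_depth_free hn r)
      · refine le_trans ?_ (add_le_add h le_rfl)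
        norm_cast
        omega
    · intro h
      refine le_trans (le_min ?_ ?_) (Depth.min_le_idealDepth_X₃ (I := maximalIdeal A)
        (Submodule.subtype_injective _) hf (LinearMap.exact_subtype_ker_map f))
      · exact le_trans (by exact_mod_cast Nat.sub_le n (q + 1)) (le_depth_free hn r)
      · refine le_trans (le_of_eq ?_) (tsub_le_tsub_right h 1)
        norm_cast

end Groth.Agent.ABReg
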